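import Groth.Agent.PPLib.SmoothBaseChange
import Groth.Agent.AzumayaX.Descent
import Mathlib.RingTheory.Flat.FaithfullyFlat.Algebra

/-! Differential smoothness descends along faithfully flat base change. -/

universe u

set_option linter.unusedSectionVars false

noncomputable section

namespace Groth.Agent.PPLib

open PP16 TensorProduct

theorem isDiffSmooth_descent (A B A' B' : Type u) [CommRing A] [CommRing B] [Algebra A B]
    [CommRing A'] [CommRing B'] [Algebra A' B'] [Algebra A A'] [Algebra B B'] [Algebra A B']
    [IsScalarTower A A' B'] [IsScalarTower A B B'] [Algebra.IsPushout A B A' B']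
    [Module.FaithfullyFlat A A']
    (h : IsDiffSmooth A' B') (hfin : Module.Finite B' (KaehlerDifferential A' B')) :
    IsDiffSmooth A B ∧ Module.Finite B (KaehlerDifferential A B) := by
  classical
  haveI hff : Module.FaithfullyFlat B B' :=
    Module.FaithfullyFlat.of_linearEquiv _ _ (Algebra.IsPushout.equiv A B A' B').toLinearEquiv.symm
  haveI : Algebra.IsPushout A A' B B' := Algebra.IsPushout.symm inferInstance
  let e := KaehlerDifferential.tensorKaehlerEquiv A A' B B'
  haveI : Module.Finite B' (B' ⊗[B] KaehlerDifferential A B) := Module.Finite.equiv e.symm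
  haveI := h.1
  haveI : Module.Projective B' (B' ⊗[B] KaehlerDifferential A B) := Module.Projective.of_equiv e.symm
  haveI hfB : Module.Finite B (KaehlerDifferential A B) :=
    Module.Finite.of_finite_tensorProduct_of_faithfullyFlat B'
  haveI hpB : Module.Projective B (KaehlerDifferential A B) :=
    AzumayaX.projective_descent B' _
  refine ⟨⟨hpB, fun ι _ => ⟨phi A B, phi_tprod_D A B, ?_, phi_surjective A B⟩⟩, hfB⟩
  obtain ⟨s, hs⟩ := Module.projective_def'.1 hpB
  let σ := KaehlerDifferential A B
  let eσ : B' ⊗[B] (σ →₀ B) ≃ₗ[B'] (σ →₀ B') := TensorProduct.finsuppScalarRight B B' B' σ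
  let j' : KaehlerDifferential A' B' →ₗ[B'] σ →₀ B' := eσ.toLinearMap ∘ₗ s.baseChange B' ∘ₗ e.symm.toLinearMap
  let K : KaehlerDifferential A B →ₗ[B] KaehlerDifferential A' B' :=
    (e.toLinearMap.restrictScalars B) ∘ₗ TensorProduct.mk B B' (KaehlerDifferential A B) 1
  have hKD : ∀ b : B, K (KaehlerDifferential.D A B b) = KaehlerDifferential.D A' B' (algebraMap B B' b) :=
    fun b => by simp [K, e]
  have hj' : ∀ ω, j' (K ω) = (s ω).mapRange (algebraMap B B') (map_zero _) := by
    intro ω
    simp only [K, j', LinearMap.comp_apply, LinearMap.restrictScalars_apply, LinearEquiv.coe_coe,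
      TensorProduct.mk_apply, LinearEquiv.symm_apply_apply, LinearMap.baseChange_tmul]
    ext i
    simp [eσ, Algebra.smul_def]
  letI : Module B (SymmetricPower B' ι (KaehlerDifferential A' B')) :=
    Module.compHom _ (algebraMap B B')
  haveI : IsScalarTower B B' (SymmetricPower B' ι (KaehlerDifferential A' B')) :=
    IsScalarTower.of_algebraMap_smul fun _ _ => rfl
  let μ : SymmetricPower B ι (KaehlerDifferential A B) →ₗ[B] SymmetricPower B' ι (KaehlerDifferential A' B') :=
    symLift (((SymmetricPower.tprod B').restrictScalars B).compLinearMap fun _ => K) fun e x =>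
      SymmetricPower.tprod_equiv e fun i => K (x i)
  have hμ : ∀ x, μ (SymmetricPower.tprod B x) = SymmetricPower.tprod B' fun i => K (x i) := fun x =>
    symLift_tprod _ _ x
  let T : B ⊗[A] B →ₗ[B] B' ⊗[A'] B' :=
    { toFun := tensorMap A B A' B'
      map_add' := map_add _
      map_smul' := fun b x => by
        show tensorMap A B A' B' (b • x) = b • tensorMap A B A' B' x
        rw [Algebra.smul_def, map_mul, Algebra.TensorProduct.algebraMap_apply, Algebra.algebraMap_self,
          RingHom.id_apply, tensorMap_tmul, map_one, Algebra.smul_def, Algebra.TensorProduct.algebraMap_apply] }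
  have hT : ∀ n x, x ∈ KaehlerDifferential.ideal A B ^ n → T x ∈ KaehlerDifferential.ideal A' B' ^ n :=
    fun n x hx => by
      refine (Ideal.pow_right_mono (ideal_map_tensorMap_le A B A' B') n) ?_
      rw [← Ideal.map_pow]
      exact Ideal.mem_map_of_mem _ hx
  let G : grI A B (Fintype.card ι) →ₗ[B] grI A' B' (Fintype.card ι) :=
    Submodule.liftQ _ (((Submodule.mkQ _).restrictScalars B) ∘ₗ
      LinearMap.codRestrict (((KaehlerDifferential.ideal A' B' ^ Fintype.card ι).restrictScalars B').restrictScalars B)
        (T ∘ₗ Submodule.subtype _) (fun x => hT _ _ x.2)) fun x hx => by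
      rw [LinearMap.mem_ker]
      exact (Submodule.Quotient.mk_eq_zero _).2 (show T x.1 ∈ KaehlerDifferential.ideal A' B' ^ (Fintype.card ι + 1) from hT _ _ hx)
  have key : G ∘ₗ phi A B = ((phi A' B').restrictScalars B) ∘ₗ μ := by
    refine sym_ext_span (fun b : B => KaehlerDifferential.D A B b) (KaehlerDifferential.span_range_derivation A B) fun c => ?_
    simp only [LinearMap.comp_apply, LinearMap.restrictScalars_apply, phi_tprod_D, hμ, hKD]
    refine (Submodule.Quotient.eq _).2 ?_
    show tensorMap A B A' B' (∏ i, ((1 : B) ⊗ₜ[A] c i - c i ⊗ₜ[A] (1 : B))) -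
      ∏ i, ((1 : B') ⊗ₜ[A'] algebraMap B B' (c i) - algebraMap B B' (c i) ⊗ₜ[A'] (1 : B')) ∈
        KaehlerDifferential.ideal A' B' ^ (Fintype.card ι + 1)
    rw [map_prod]
    simp [tensorMap_tmul]
  have key2 : ((symPoly ∘ₗ symMap j').restrictScalars B) ∘ₗ μ =
      (MvPolynomial.mapAlgHom (Algebra.ofId B B')).toLinearMap ∘ₗ symPoly ∘ₗ symMap s := by
    refine sym_ext fun x => ?_
    simp only [LinearMap.comp_apply, LinearMap.restrictScalars_apply, hμ, symMap_tprod, symPoly_tprod, hj',
      map_linForm_mapRange, AlgHom.toLinearMap_apply, map_prod]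
    rfl
  rw [injective_iff_map_eq_zero]
  intro t ht
  have h0 : μ t = 0 := by
    apply (phi_bijective_of_isDiffSmooth A' B' h ι).1
    rw [map_zero]
    have := LinearMap.congr_fun key t
    rw [LinearMap.comp_apply, ht, map_zero] at this
    exact this.symm
  apply symPoly_symMap_injective s (Finsupp.linearCombination B id) hs
  rw [map_zero]
  have := LinearMap.congr_fun key2 t
  rw [LinearMap.comp_apply, h0, map_zero] at this
  refine MvPolynomial.map_injective (algebraMap B B') (FaithfulSMul.algebraMap_injective B B') ?_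
  rw [map_zero]
  exact this.symm

end Groth.Agent.PPLib
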